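import Cfsg.Agent.H767.PO.Sp
import Cfsg.Agent.H185.OrthCent
import Cfsg.Agent.H858.TOrthA
import Cfsg.Agent.S0816
import Cfsg.Agent.S0286

/-!
# Automorphisms of `Ω_{2n+1}(q)`, `n = 2 ^ k`, fixing an element of prime order `r ∣ q ^ n + 1` (helper767, S3536 P-OUT)
-/

set_option autoImplicit false

namespace Cfsg.Agent.H767.PO

open Cfsg Polynomial QuadraticMap
open scoped Matrix
open Cfsg.Agent.LieClassical Cfsg.Agent.LieClassical.OrthCore Cfsg.Agent.LieClassical.OrthTrans
  Cfsg.Agent.LieClassical.OrthForms Cfsg.Agent.ClassicalGeometry.OrthSemi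
  Cfsg.Agent.H198.OrthFrame Cfsg.Agent.H185.OrthCent

section Invol

variable {F V : Type*} [Field F] [Fintype F] [AddCommGroup V] [Module F V] [FiniteDimensional F V]

theorem natCast_ne_zero_of_dvd {r k : ℕ} (h : r ∣ Fintype.card F ^ 2 ^ k + 1) : (r : F) ≠ 0 := by
  intro h0
  have h1 : ((Fintype.card F ^ 2 ^ k + 1 : ℕ) : F) = 0 := by
    obtain ⟨c, hc⟩ := h
    rw [hc, Nat.cast_mul, h0, zero_mul]
  push_cast at h1
  rw [FiniteField.cast_card_eq_zero, zero_pow (by positivity), zero_add] at h1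
  exact one_ne_zero h1

/-- the involution `1` on the fixed vectors of `L`, `-1` on `[V, L]` -/
theorem exists_invol (h2 : (2 : F) ≠ 0) {r k : ℕ} (h : r ∣ Fintype.card F ^ 2 ^ k + 1)
    {L : Module.End F V} (hL : L ^ r = 1) (hL1 : L ≠ 1) {v : V} (hv0 : v ≠ 0) (hv : L v = v) :
    ∃ P : F[X], (aeval L P) ^ 2 = 1 ∧ ∀ a : F, aeval L P ≠ algebraMap F (Module.End F V) a := by
  have hr0 : (r : F) ≠ 0 := natCast_ne_zero_of_dvd h
  set N : Module.End F V := ∑ i ∈ Finset.range r, L ^ i with hN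
  have hLN : L * N = N := by
    have h1 : (L - 1) * N = 0 := by rw [hN, mul_geom_sum, hL, sub_self]
    rw [sub_mul, one_mul, sub_eq_zero] at h1
    exact h1
  have hLiN : ∀ i, L ^ i * N = N := by
    intro i
    induction i with
    | zero => rw [pow_zero, one_mul]
    | succ i ih => rw [pow_succ, mul_assoc, hLN, ih]
  have hNN : N * N = (r : F) • N := by
    conv_lhs => lhs; rw [hN]
    rw [Finset.sum_mul, Finset.sum_congr rfl (fun i _ => hLiN i), Finset.sum_const, Finset.card_range,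
      ← Nat.cast_smul_eq_nsmul F]
  have hNv : N v = (r : F) • v := by
    have h1 : ∀ i, (L ^ i) v = v := by
      intro i
      induction i with
      | zero => rfl
      | succ i ih => rw [pow_succ, Module.End.mul_apply, hv, ih]
    rw [hN, LinearMap.sum_apply, Finset.sum_congr rfl (fun i _ => h1 i), Finset.sum_const, Finset.card_range,
      ← Nat.cast_smul_eq_nsmul F]
  have hP : aeval L (C (2 / (r : F)) * (∑ i ∈ Finset.range r, (X : F[X]) ^ i) - 1) = (2 / (r : F)) • N - 1 := by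
    rw [map_sub, map_mul, aeval_C, map_sum, map_one, Algebra.smul_def]
    simp only [map_pow, aeval_X]
    rw [hN]
  refine ⟨C (2 / (r : F)) * (∑ i ∈ Finset.range r, (X : F[X]) ^ i) - 1, ?_, ?_⟩
  · rw [hP, _root_.sq]
    have h1 : ((2 / (r : F)) • N - 1) * ((2 / (r : F)) • N - 1) =
        (2 / (r : F)) • (2 / (r : F)) • (N * N) - (2 / (r : F)) • N - (2 / (r : F)) • N + 1 := by
      rw [sub_mul, mul_sub, mul_one, one_mul, smul_mul_smul_comm, mul_smul]
      abel
    rw [h1, hNN, smul_smul (2 / (r : F)) (r : F), div_mul_cancel₀ _ hr0, smul_comm, two_smul]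
    abel
  · intro a ha
    rw [hP] at ha
    have h1 := congrArg (fun f : Module.End F V => f v) ha
    simp only [LinearMap.sub_apply, LinearMap.smul_apply, Module.End.one_apply, Module.algebraMap_end_apply] at h1
    rw [hNv, smul_smul, div_mul_cancel₀ _ hr0] at h1
    have h3 : (a - 1) • v = 0 := by
      rw [sub_smul, ← h1]
      module
    have h4 : a = 1 := by
      rcases smul_eq_zero.1 h3 with h4 | h4
      · exact sub_eq_zero.1 h4
      · exact absurd h4 hv0
    subst h4
    rw [map_one] at ha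
    have h5 : N * (L - 1) = 0 := by rw [hN, geom_sum_mul, hL, sub_self]
    have h6 : (2 / (r : F)) • N = (2 : F) • (1 : Module.End F V) := by
      rw [sub_eq_iff_eq_add] at ha
      rw [ha, two_smul]
    have h7 : (2 : F) • (L - 1) = 0 := by
      have h8 : ((2 / (r : F)) • N) * (L - 1) = 0 := by rw [smul_mul_assoc, h5, smul_zero]
      rw [h6, smul_mul_assoc, one_mul] at h8
      exact h8
    rcases smul_eq_zero.1 h7 with h8 | h8
    · exact h2 h8
    · exact hL1 (sub_eq_zero.1 h8)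

end Invol

variable {F : Type*} [Field F]

theorem ext_odd {K : Type*} [Field K] (f : K →+* F) (n : ℕ) : Ext f (oddForm n K) (oddForm n F) where
  app v := by
    rw [coe_oddForm, coe_oddForm]
    unfold quadFormOdd
    simp only [map_add, map_sum, map_mul, map_pow]

/-- the isometries over the small field as isometries over the large one -/
def mapIso {K : Type*} [Field K] (f : K →+* F) (n : ℕ) :
    isometryGroup K ⇑(oddForm n K) →* isometryGroup F ⇑(oddForm n F) where
  toFun x := ⟨mp f x.1, fun v _ => by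
    have h := (ext_odd f n).sim (g := x.1) (c := 1) (fun w => by rw [one_mul]; exact x.2 w w) v
    rw [map_one, one_mul] at h
    exact h⟩
  map_one' := Subtype.ext (map_one _)
  map_mul' x y := Subtype.ext (map_mul _ _ _)

theorem mapIso_injective {K : Type*} [Field K] (f : K →+* F) (n : ℕ) : Function.Injective (mapIso (F := F) f n) := by
  intro x y h
  exact Subtype.ext (mp_injective f (congrArg Subtype.val h))

theorem exists_order_orth {K : Type*} [Field K] [Fintype K] {r k : ℕ} (hr : r.Prime) (hodd : Odd (Fintype.card K))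
    (h : r ∣ Fintype.card K ^ 2 ^ k + 1) : ∃ g : isometryGroup K ⇑(oddForm (2 ^ k) K), orderOf g = r := by
  haveI : Fact r.Prime := ⟨hr⟩
  haveI : Finite (isometryGroup K ⇑(oddForm (2 ^ k) K)) := inferInstance
  apply exists_prime_orderOf_dvd_card' r
  rw [coe_oddForm, Cfsg.Agent.S0286.result rfl hodd]
  apply Dvd.dvd.mul_left
  have hn1 : 1 ≤ 2 ^ k := Nat.one_le_two_pow
  refine Dvd.dvd.trans ?_ (Finset.dvd_prod_of_mem _ (Finset.mem_range.2 (show 2 ^ k - 1 < 2 ^ k by omega)))
  have h1 : 2 * (2 ^ k - 1 + 1) = 2 ^ k * 2 := by omega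
  rw [h1, pow_mul]
  have h2 : (Fintype.card K ^ 2 ^ k) ^ 2 - 1 = (Fintype.card K ^ 2 ^ k + 1) * (Fintype.card K ^ 2 ^ k - 1) := by
    have := Nat.sq_sub_sq (Fintype.card K ^ 2 ^ k) 1
    rwa [one_pow] at this
  rw [h2]
  exact h.mul_right _

section

variable {n : ℕ}

theorem nondegenerate_odd (h2 : (2 : F) ≠ 0) (n : ℕ) : (polarBilin (oddForm n F)).Nondegenerate :=
  ⟨fun x hx => nondeg_oddForm n F h2 x hx,
    fun y hy => nondeg_oddForm n F h2 y fun x => by rw [polar_comm]; exact hy x⟩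

theorem mem_omega_of_odd [Finite F] (h2 : (2 : F) ≠ 0) (hn : 1 ≤ n) {g : isometryGroup F ⇑(oddForm n F)} {r : ℕ}
    (hr : Odd r) (hg : g ^ r = 1) : g ∈ Omega F ⇑(oddForm n F) := by
  have hidx := ClassicalGeometry.OmegaIndex.index_Omega h2 (by
    rw [Fintype.card_sum, Fintype.card_sum, Fintype.card_fin, Fintype.card_unit]
    omega) (oddForm n F) (nondegenerate_odd h2 n)
  have h4 : g ^ 4 ∈ Omega F ⇑(oddForm n F) := by
    rw [← hidx]
    exact Subgroup.pow_index_mem _ g
  have hcop : Nat.Coprime 4 r := (Nat.coprime_two_left.2 hr).pow_left 2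
  have h5 : g = (g ^ 4) ^ (Nat.gcdA 4 r) := by
    have h6 := Nat.gcd_eq_gcd_ab 4 r
    rw [hcop.gcd_eq_one] at h6
    calc g = g ^ ((1 : ℕ) : ℤ) := by rw [Nat.cast_one, zpow_one]
      _ = g ^ ((4 : ℕ) * Nat.gcdA 4 r + (r : ℤ) * Nat.gcdB 4 r : ℤ) := by rw [h6]
      _ = (g ^ 4) ^ (Nat.gcdA 4 r) := by
        rw [zpow_add, zpow_mul, zpow_natCast, zpow_mul, zpow_natCast, hg, one_zpow, mul_one]
  rw [h5]
  exact Subgroup.zpow_mem _ h4 _

end

set_option maxHeartbeats 2000000 in
/-- **The orthogonal case.** -/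
theorem outOK_orth [Fintype F] {p a k m : ℕ} (hp : p.Prime) (hp2 : p ≠ 2) (ha : Odd a)
    (hF : Fintype.card F = p ^ a) (hk : 2 ≤ k) (hm : 2 * m = Fintype.card F ^ 2 ^ k + 1) :
    OutOK m (POmega F (quadFormOdd (2 ^ k) F)) := by
  classical
  rw [← coe_oddForm]
  haveI : Fact p.Prime := ⟨hp⟩
  haveI : Fact (Nat.Prime 2) := ⟨Nat.prime_two⟩
  have ha0 : a ≠ 0 := by rintro rfl; exact absurd ha (by decide)
  have hchar : CharP F p := by
    obtain ⟨q, hq⟩ := CharP.exists F
    obtain ⟨n, hqp, hn⟩ := FiniteField.card F q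
    have : q ∣ p ^ a := by
      rw [← hF, hn]
      exact dvd_pow_self q n.pos.ne'
    have hqp' : q = p := (Nat.prime_dvd_prime_iff_eq hqp hp).1 (hqp.dvd_of_dvd_pow this)
    rwa [← hqp']
  have h2 : (2 : F) ≠ 0 := by
    intro h0
    have : p ∣ 2 := (CharP.cast_eq_zero_iff F p 2).1 (by exact_mod_cast h0)
    exact hp2 ((Nat.prime_dvd_prime_iff_eq hp Nat.prime_two).1 this)
  obtain ⟨r, hr, hr2, hrp⟩ := exists_r hp hp2 (by omega : 1 ≤ k)
  haveI : Fact r.Prime := ⟨hr⟩
  have hrq : r ∣ Fintype.card F ^ 2 ^ k + 1 := by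
    rw [hF]; exact dvd_of_odd ha hrp
  have hrm : r ∣ m := by
    rw [← hm] at hrq
    rcases (Nat.Prime.dvd_mul hr).1 hrq with h | h
    · exact absurd ((Nat.prime_dvd_prime_iff_eq hr Nat.prime_two).1 h) hr2
    · exact h
  have hn4 : 4 ≤ 2 ^ k := by
    calc 4 = 2 ^ 2 := by norm_num
      _ ≤ 2 ^ k := Nat.pow_le_pow_right (by norm_num) hk
  have hcardι : Fintype.card (Unit ⊕ (Fin (2 ^ k) ⊕ Fin (2 ^ k))) = 2 * 2 ^ k + 1 := by
    rw [Fintype.card_sum, Fintype.card_sum, Fintype.card_fin, Fintype.card_unit]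
    ring
  have hG : Good (oddForm (2 ^ k) F) := ClassicalGeometry.OrthSemiForms.good_odd (by omega) h2
  have hnd := nondegenerate_odd h2 (2 ^ k)
  obtain ⟨g₀, hg₀⟩ := exists_order_orth (K := ZMod p) (k := k) hr (by
    rw [ZMod.card]; exact hp.odd_of_ne_two hp2) (by rwa [ZMod.card])
  letI : Algebra (ZMod p) F := ZMod.algebra F p
  set g := mapIso (algebraMap (ZMod p) F) (2 ^ k) g₀ with hg
  have hgr : orderOf g = r := by rw [hg, orderOf_injective _ (mapIso_injective _ _), hg₀]
  have hgr1 : g ^ r = 1 := by rw [← hgr, pow_orderOf_eq_one]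
  have hmem : g ∈ Omega F ⇑(oddForm (2 ^ k) F) :=
    mem_omega_of_odd h2 (by omega) (hr.odd_of_ne_two hr2) hgr1
  set s : Omega F ⇑(oddForm (2 ^ k) F) := ⟨g, hmem⟩ with hs
  have hcen : Subgroup.center (Omega F ⇑(oddForm (2 ^ k) F)) = ⊥ := by
    apply OrthCenter.center_omega_eq_bot_of_odd h2 hnd
    · rw [hcardι]; omega
    · rw [hcardι]; exact ⟨2 ^ k, rfl⟩
    · exact hG.sing
  have hzr : orderOf (QuotientGroup.mk s : POmega F ⇑(oddForm (2 ^ k) F)) = r := by
    apply orderOf_eq_prime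
    · rw [← QuotientGroup.mk_pow, hs]
      have h3 : (⟨g, hmem⟩ : Omega F ⇑(oddForm (2 ^ k) F)) ^ r = 1 := Subtype.ext hgr1
      rw [h3]
      rfl
    · intro h3
      have h4 : s ∈ Subgroup.center (Omega F ⇑(oddForm (2 ^ k) F)) := (QuotientGroup.eq_one_iff _).1 h3
      rw [hcen, Subgroup.mem_bot] at h4
      have h5 : g = 1 := congrArg Subtype.val h4
      rw [h5, orderOf_one] at hgr
      exact hr.one_lt.ne hgr
  have hfix : ∀ σ : F ≃+* F, Fix σ (oddForm (2 ^ k) F) := by
    intro σ v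
    rw [coe_oddForm]
    unfold quadFormOdd
    simp only [map_add, map_sum, map_mul, map_pow]
  have hmat : ∀ v : (Unit ⊕ (Fin (2 ^ k) ⊕ Fin (2 ^ k))) → F,
      g.1.1 *ᵥ v = (g₀.1.1).map (algebraMap (ZMod p) F) *ᵥ v := fun _ => rfl
  refine ⟨a, ha, ?_, ⟨r, QuotientGroup.mk s, Phi hG (frobG (hfix (frobeniusEquiv F p))), hr, hrm, hzr, ?_, ?_⟩, ?_⟩
  · have h3 := Cfsg.Agent.S0816.result (F := F) p a (Nat.one_le_iff_ne_zero.2 ha0) hF (hp.odd_of_ne_two hp2) (2 ^ k)
      (by omega)
    rw [← coe_oddForm] at h3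
    exact h3
  · haveI : Nonempty (Unit ⊕ (Fin (2 ^ k) ⊕ Fin (2 ^ k))) := ⟨Sum.inl ()⟩
    rw [orderOf_Phi_frob, orderOf_frob ha0 hF]
  · apply Phi_mk
    intro v
    change g.1.1 *ᵥ _ = (frobG (hfix (frobeniusEquiv F p))).1 (g.1.1 *ᵥ v)
    rw [frobG_apply, frobG_apply, hmat, hmat]
    ext i
    simp only [Matrix.mulVec, dotProduct, map_sum, map_mul]
    refine Finset.sum_congr rfl fun j _ => ?_
    rw [Matrix.map_apply]
    congr 1
    rw [frobeniusEquiv_apply, frobenius_def, ← map_pow, ZMod.pow_card]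
  · -- the involution
    set L : Module.End F ((Unit ⊕ (Fin (2 ^ k) ⊕ Fin (2 ^ k))) → F) :=
      Matrix.toLin' g.1.1 with hL
    set L' : Module.End F ((Unit ⊕ (Fin (2 ^ k) ⊕ Fin (2 ^ k))) → F) :=
      Matrix.toLin' (g.1⁻¹).1 with hL'
    have hLp : ∀ i : ℕ, L ^ i = Matrix.toLin' (g ^ i).1.1 := by
      intro i
      rw [SubmonoidClass.coe_pow, Units.val_pow_eq_pow_val, Matrix.toLin'_pow]
    have hLr : L ^ r = 1 := by
      rw [hLp, hgr1]
      exact Matrix.toLin'_one
    have hL1 : L ≠ 1 := by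
      intro h1
      apply hr.one_lt.ne
      rw [← hgr, eq_comm, orderOf_eq_one_iff]
      apply Subtype.ext
      apply Units.ext
      apply Matrix.toLin'.injective
      rw [← hL, h1]
      exact (Matrix.toLin'_one).symm
    have hLL' : L * L' = 1 := by
      rw [hL, hL', Module.End.mul_eq_comp, ← Matrix.toLin'_mul, ← Units.val_mul, mul_inv_cancel]
      exact Matrix.toLin'_one
    have hLQ : ∀ v, oddForm (2 ^ k) F (L v) = oddForm (2 ^ k) F v := fun v => g.2 v v
    have hLB : ∀ u v, polar (oddForm (2 ^ k) F) (L u) (L v) = polar (oddForm (2 ^ k) F) u v := by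
      intro u v
      rw [polar, polar, ← map_add, hLQ, hLQ, hLQ]
    have hadj : ∀ u v, polar (oddForm (2 ^ k) F) (L u) v = polar (oddForm (2 ^ k) F) u (L' v) := by
      intro u v
      have h1 : v = L (L' v) := by rw [← Module.End.mul_apply, hLL', Module.End.one_apply]
      conv_lhs => rw [h1]
      exact hLB u (L' v)
    obtain ⟨v, hv0, hv⟩ := H858.TOrth.exists_fixed_of_odd (F := F) (by
      rw [Module.finrank_fintype_fun_eq_card, hcardι]; exact ⟨2 ^ k, rfl⟩) h2 (polarBilin (oddForm (2 ^ k) F))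
      (fun x hx => hnd.1 x fun y => by rw [hx]; rfl) L hLB (hr.odd_of_ne_two hr2) hLr
    obtain ⟨P, hP, hPa⟩ := exists_invol h2 hrq hLr hL1 hv0 hv
    set E := aeval L P with hE
    have hq1 : L ^ (Fintype.card F ^ 2 ^ k) = L' := by
      obtain ⟨c, hc⟩ := hrq
      have h3 : L ^ (Fintype.card F ^ 2 ^ k) * L = 1 := by
        rw [← pow_succ, hc, pow_mul, hLr, one_pow]
      calc L ^ (Fintype.card F ^ 2 ^ k) = L ^ (Fintype.card F ^ 2 ^ k) * (L * L') := by rw [hLL', mul_one]
        _ = L' := by rw [← mul_assoc, h3, one_mul]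
    have hEq : E ^ (Fintype.card F ^ 2 ^ k) = aeval L' P := by
      rw [hE, aeval_pow_card, hq1]
    have hEE : E ^ (Fintype.card F ^ 2 ^ k) = E := by
      have hodd : Odd (Fintype.card F ^ 2 ^ k) := by
        rw [hF]; exact (hp.odd_of_ne_two hp2).pow.pow
      obtain ⟨c, hc⟩ := hodd
      rw [hc, pow_succ, pow_mul, hP, one_pow, one_mul]
    have hself : ∀ u v, polar (oddForm (2 ^ k) F) (E u) v = polar (oddForm (2 ^ k) F) u (E v) := by
      intro u v
      have h3 := adj (B := polar (oddForm (2 ^ k) F)) (polar_add_left _) (polar_add_right _)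
        (fun a u v => by rw [polar_smul_left, smul_eq_mul]) (fun a u v => by rw [polar_smul_right, smul_eq_mul])
        hadj P u v
      rw [← hE, ← hEq, hEE] at h3
      exact h3
    have hE2 : ∀ v, E (E v) = v := by
      intro v
      rw [← Module.End.mul_apply, ← _root_.sq, hP, Module.End.one_apply]
    have hEQ : ∀ v, oddForm (2 ^ k) F (E v) = oddForm (2 ^ k) F v := by
      intro v
      have h3 : polar (oddForm (2 ^ k) F) (E v) (E v) = polar (oddForm (2 ^ k) F) v v := by
        rw [hself, hE2]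
      rw [polar_self, polar_self, two_smul, two_smul, ← two_mul, ← two_mul] at h3
      exact mul_left_cancel₀ h2 h3
    let π : Equiv.Perm ((Unit ⊕ (Fin (2 ^ k) ⊕ Fin (2 ^ k))) → F) :=
      { toFun := fun v => E v
        invFun := fun v => E v
        left_inv := fun v => hE2 v
        right_inv := fun v => hE2 v }
    have hπ : ∀ v, π v = E v := fun _ => rfl
    have hss : IsSS (oddForm (2 ^ k) F) (RingEquiv.refl F) 1 π := by
      refine ⟨one_ne_zero, fun u v => ?_, fun a v => ?_, fun v => ?_⟩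
      · rw [hπ, hπ, hπ, map_add]
      · rw [hπ, hπ, map_smul]; rfl
      · rw [hπ, hEQ, one_mul]; rfl
    let G : Gam (oddForm (2 ^ k) F) := ⟨π, _, _, hss⟩
    refine ⟨r, QuotientGroup.mk s, Phi hG G, hr, hrm, hzr, ?_, ?_⟩
    · apply orderOf_eq_prime
      · rw [← map_pow, Phi_eq_one_iff]
        refine ⟨1, one_ne_zero, fun v => ?_⟩
        rw [_root_.sq, one_smul]
        exact hE2 v
      · rw [Ne, Phi_eq_one_iff]
        rintro ⟨b, -, hb⟩
        apply hPa b
        refine LinearMap.ext fun v => ?_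
        rw [Module.algebraMap_end_apply]
        exact hb v
    · apply Phi_mk
      intro v
      have hcomm : ∀ v, E (L v) = L (E v) := by
        intro v
        have h3 : E * L = L * E := by
          have e1 : L = aeval L (X : F[X]) := (aeval_X L).symm
          rw [hE]
          nth_rewrite 2 [e1]
          nth_rewrite 3 [e1]
          rw [← map_mul, ← map_mul, mul_comm]
        rw [← Module.End.mul_apply, h3, Module.End.mul_apply]
      exact (hcomm v).symm

end Cfsg.Agent.H767.PO
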