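import Cfsg.Agent.H767.PO.Abs
import Cfsg.Agent.H767.PO.Fld
import Cfsg.Agent.H206.PspFix
import Cfsg.Agent.S0814
import Cfsg.Agent.LieClassical.SympCount

/-!
# Automorphisms of `PSp (2 ^ k) F` fixing an element of prime order `r ∣ q ^ 2 ^ k + 1` (helper767, S3536 P-OUT)
-/

set_option autoImplicit false

namespace Cfsg.Agent.H767.PO

open Cfsg Polynomial
open scoped Matrix
open Cfsg.Agent.ClassicalGeometry.SympBasic Cfsg.Agent.ClassicalGeometry.SympAutSemi
  Cfsg.Agent.ClassicalGeometry.SympGamma Cfsg.Agent.H206.PspFix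
open Cfsg.Agent.LieClassical

/-- what is used of `S`: outer automorphisms with fixed points -/
def OutOK (m : ℕ) (S : Type*) [Group S] : Prop :=
  ∃ a, Odd a ∧ Nat.card (MulAut S) = 2 * a * Nat.card S ∧
    (∃ (r : ℕ) (z : S) (φ : MulAut S), r.Prime ∧ r ∣ m ∧ orderOf z = r ∧ orderOf φ = a ∧ φ z = z) ∧
    (∃ (r : ℕ) (z : S) (τ : MulAut S), r.Prime ∧ r ∣ m ∧ orderOf z = r ∧ orderOf τ = 2 ∧ τ z = z)

theorem OutOK.congr {m : ℕ} {S T : Type*} [Group S] [Group T] (e : S ≃* T) (h : OutOK m T) : OutOK m S := by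
  obtain ⟨a, ha, hc, ⟨r, z, φ, hr, hrm, hz, hφ, hfix⟩, ⟨r', z', τ, hr', hrm', hz', hτ, hfix'⟩⟩ := h
  have key : ∀ (f : MulAut T) (y : T), f y = y → (MulAut.congr e).symm f (e.symm y) = e.symm y := by
    intro f y hf
    change e.symm (f (e (e.symm y))) = e.symm y
    rw [MulEquiv.apply_symm_apply, hf]
  refine ⟨a, ha, ?_, ⟨r, e.symm z, (MulAut.congr e).symm φ, hr, hrm, ?_, ?_, key _ _ hfix⟩,
    ⟨r', e.symm z', (MulAut.congr e).symm τ, hr', hrm', ?_, ?_, key _ _ hfix'⟩⟩
  · rw [Nat.card_congr (MulAut.congr e).toEquiv, Nat.card_congr e.toEquiv, hc]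
  · rw [MulEquiv.orderOf_eq, hz]
  · rw [MulEquiv.orderOf_eq, hφ]
  · rw [MulEquiv.orderOf_eq, hz']
  · rw [MulEquiv.orderOf_eq, hτ]

section Frame

variable {A : Type*} [Group A] {S : Subgroup A} [S.Normal]

theorem eq_top_of_outOK [Finite A] (hC : Subgroup.centralizer (S : Set A) = ⊥) {m : ℕ} (hm : ¬ 2 ∣ m) (hI : Isol m A)
    (hS : OutOK m S) (hidx : S.index.Coprime m) : S = ⊤ := by
  classical
  obtain ⟨a, ha, hc, ⟨r, z, φ, hr, hrm, hz, hφ, hfix⟩, ⟨r', z', τ, hr', hrm', hz', hτ, hfix'⟩⟩ := hS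
  rw [← Subgroup.index_eq_one]
  by_contra hne
  obtain ⟨t, ht, hti⟩ := Nat.exists_prime_and_dvd hne
  have htm : ¬ t ∣ m := fun h => Nat.Prime.one_lt ht |>.ne' (Nat.dvd_one.1 (hidx ▸ Nat.dvd_gcd hti h))
  by_cases ht2 : t = 2
  · subst ht2
    refine not_dvd_index hC hI ht hm hr' hrm' hz' (f := τ) (j := 1) (by rw [hτ, pow_one]) hfix' (c := a) ?_ ?_ hti
    · intro h
      exact (Nat.not_even_iff_odd.2 ha) (even_iff_two_dvd.2 h)
    · rw [hc, pow_one]
  · have ha0 : a ≠ 0 := by rintro rfl; exact absurd ha (by decide)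
    obtain ⟨j, c, hcop, hac⟩ := Nat.exists_eq_pow_mul_and_not_dvd ha0 t ht.ne_one
    have hc0 : c ≠ 0 := by rintro rfl; exact hcop (dvd_zero t)
    refine not_dvd_index hC hI ht htm hr hrm hz (f := φ ^ c) (j := j) ?_ ?_ (c := 2 * c) ?_ ?_ hti
    · rw [orderOf_pow, hφ, hac, Nat.gcd_mul_left_left, Nat.mul_div_cancel _ (Nat.pos_of_ne_zero hc0)]
    · have h6 : φ ∈ MulAction.stabilizer (MulAut S) z := hfix
      exact (MulAction.stabilizer (MulAut S) z).pow_mem h6 c
    · intro h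
      rcases (Nat.Prime.dvd_mul ht).1 h with h | h
      · exact ht2 ((Nat.prime_dvd_prime_iff_eq ht Nat.prime_two).1 h)
      · exact hcop h
    · rw [hc, hac]
      ring

end Frame

/-- an involutory similitude of `Sp` commuting with `z` -/
theorem exists_tau {F : Type*} [Field F] [Fintype F] {r k : ℕ} (hr : r.Prime) (hr2 : r ≠ 2)
    (h2 : (2 : F) ≠ 0) (hk : 1 ≤ k) (h : r ∣ Fintype.card F ^ 2 ^ k + 1)
    {g : Matrix.symplecticGroup (Fin (2 ^ k)) F} (hg : orderOf g = r) :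
    ∃ τ : MulAut (PSp (2 ^ k) F), orderOf τ = 2 ∧ τ (QuotientGroup.mk g) = QuotientGroup.mk g := by
  classical
  haveI : Fact (Nat.Prime 2) := ⟨Nat.prime_two⟩
  obtain ⟨ν, hν⟩ := FiniteField.exists_nonsquare (F := F) (by
    intro hc
    apply h2
    have : CharP F 2 := hc ▸ ringChar.charP F
    exact CharTwo.two_eq_zero)
  have hν0 : ν ≠ 0 := by rintro rfl; exact hν ⟨0, by rw [mul_zero]⟩
  set L : Module.End F (Fin (2 ^ k) ⊕ Fin (2 ^ k) → F) := Matrix.toLin' g.1 with hL
  have hLp : ∀ i : ℕ, L ^ i = Matrix.toLin' (g ^ i).1 := by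
    intro i
    rw [SubmonoidClass.coe_pow, Matrix.toLin'_pow]
  have hLr : L ^ r = 1 := by
    rw [hLp, ← hg, pow_orderOf_eq_one]
    exact Matrix.toLin'_one
  have hL1 : L ≠ 1 := by
    intro h1
    apply hr.one_lt.ne
    rw [← hg, eq_comm, orderOf_eq_one_iff]
    apply Subtype.ext
    apply Matrix.toLin'.injective
    rw [← hL, h1]
    exact (Matrix.toLin'_one).symm
  obtain ⟨P, hP⟩ := exists_sqrt hr hr2 h (by
    rw [Module.finrank_fintype_fun_eq_card, Fintype.card_sum, Fintype.card_fin]; ring) hLr hL1 ν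
  set E := aeval L P with hE
  -- the adjoint
  set L' : Module.End F (Fin (2 ^ k) ⊕ Fin (2 ^ k) → F) := Matrix.toLin' (g⁻¹).1 with hL'
  have hLL' : L * L' = 1 := by
    rw [hL, hL', Module.End.mul_eq_comp, ← Matrix.toLin'_mul, ← Submonoid.coe_mul, mul_inv_cancel]
    exact Matrix.toLin'_one
  have hadj : ∀ u v, sympForm (2 ^ k) F (L u) v = sympForm (2 ^ k) F u (L' v) := by
    intro u v
    have h1 : v = L (L' v) := by rw [← Module.End.mul_apply, hLL', Module.End.one_apply]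
    conv_lhs => rw [h1]
    exact sympForm_rho g u (L' v)
  have hq1 : L ^ (Fintype.card F ^ 2 ^ k) = L' := by
    obtain ⟨c, hc⟩ := h
    have h3 : L ^ (Fintype.card F ^ 2 ^ k) * L = 1 := by
      rw [← pow_succ, hc, pow_mul, hLr, one_pow]
    calc L ^ (Fintype.card F ^ 2 ^ k) = L ^ (Fintype.card F ^ 2 ^ k) * (L * L') := by rw [hLL', mul_one]
      _ = L' := by rw [← mul_assoc, h3, one_mul]
  have hEq : E ^ (Fintype.card F ^ 2 ^ k) = aeval L' P := by
    rw [hE, aeval_pow_card, hq1]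
  -- `E ^ q ^ n = E`
  have hodd : Fintype.card F % 2 = 1 := FiniteField.odd_card_of_char_ne_two (by
    intro hc
    apply h2
    have : CharP F 2 := hc ▸ ringChar.charP F
    exact CharTwo.two_eq_zero)
  have hEE : E ^ (Fintype.card F ^ 2 ^ k) = E := by
    obtain ⟨j, rfl⟩ : ∃ j, k = j + 1 := ⟨k - 1, by omega⟩
    set c := Fintype.card F ^ 2 ^ j with hc
    have hco : c % 2 = 1 := by
      rw [← Nat.odd_iff]
      exact (Nat.odd_iff.2 hodd).pow
    have h4 : Fintype.card F ^ 2 ^ (j + 1) = c * c := by rw [pow_succ, pow_mul, sq, hc]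
    obtain ⟨e, he⟩ : ∃ e, c = 2 * e + 1 := ⟨c / 2, by omega⟩
    have h5 : (Fintype.card F - 1) ∣ c - 1 := by
      have := Nat.sub_dvd_pow_sub_pow (Fintype.card F) 1 (2 ^ j)
      rwa [one_pow] at this
    obtain ⟨d, hd⟩ : (Fintype.card F - 1) ∣ (c - 1) * (e + 1) := h5.mul_right _
    have h6 : c * c = 2 * ((c - 1) * (e + 1)) + 1 := by
      rw [he, Nat.add_sub_cancel]; ring
    rw [h4, h6, pow_succ E (2 * ((c - 1) * (e + 1))), pow_mul E, hP, hd, ← map_pow, pow_mul ν,
      FiniteField.pow_card_sub_one_eq_one ν hν0, one_pow, map_one, one_mul]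
  have hself : ∀ u v, sympForm (2 ^ k) F (E u) v = sympForm (2 ^ k) F u (E v) := by
    intro u v
    have h3 := adj sympForm_add_left sympForm_add_right sympForm_smul_left sympForm_smul_right hadj P u v
    rw [← hE, ← hEq, hEE] at h3
    exact h3
  have hE2 : ∀ v, E (E v) = ν • v := by
    intro v
    rw [← Module.End.mul_apply, ← sq, hP, Module.algebraMap_end_apply]
  let π : Equiv.Perm (Fin (2 ^ k) ⊕ Fin (2 ^ k) → F) :=
    { toFun := fun v => E v
      invFun := fun v => ν⁻¹ • E v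
      left_inv := fun v => by
        change ν⁻¹ • E (E v) = v
        rw [hE2, smul_smul, inv_mul_cancel₀ hν0, one_smul]
      right_inv := fun v => by
        change E (ν⁻¹ • E v) = v
        rw [map_smul, hE2, smul_smul, inv_mul_cancel₀ hν0, one_smul] }
  have hπ : ∀ v, π v = E v := fun _ => rfl
  have hsemi : IsSemi π (RingEquiv.refl F) ν := by
    refine ⟨fun u v => ?_, fun a v => ?_, fun u v => ?_⟩
    · rw [hπ, hπ, hπ, map_add]
    · rw [hπ, hπ, map_smul]; rfl
    · rw [hπ, hπ, hself, hE2, sympForm_smul_right]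
      rfl
  let G : semiSim (2 ^ k) F := ⟨π, _, _, hν0, hsemi⟩
  have hn1 : 1 ≤ 2 ^ k := Nat.one_le_two_pow
  refine ⟨Psi (2 ^ k) F G, ?_, ?_⟩
  · apply orderOf_eq_prime
    · rw [← map_pow]
      have h3 : G ^ 2 = ⟨scal (2 ^ k) F (Units.mk0 ν hν0), _, _, by
          exact mul_ne_zero hν0 hν0, isSemi_scal (Units.mk0 ν hν0)⟩ := by
        apply Subtype.ext
        ext1 v
        rw [sq]
        change π (π v) = ν • v
        rw [hπ, hπ, hE2]
      rw [h3]
      apply MulEquiv.ext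
      intro x
      obtain ⟨x, rfl⟩ := QuotientGroup.mk_surjective x
      rw [Psi_mk, MulAut.one_apply]
      congr 1
      apply rho_injective
      rw [rho_conjHom]
      ext1 v
      change scal (2 ^ k) F (Units.mk0 ν hν0) (rho (2 ^ k) F x ((scal (2 ^ k) F (Units.mk0 ν hν0))⁻¹ v)) = _
      rw [scal_apply, rho_apply, rho_apply, ← Matrix.mulVec_smul, ← scal_apply]
      congr 1
      exact Equiv.apply_symm_apply _ _
    · intro h3
      obtain ⟨a, ha⟩ := exists_scal_of_Psi_eq_one hn1 _ h3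
      apply hν
      refine ⟨(a : F), ?_⟩
      let v : Fin (2 ^ k) ⊕ Fin (2 ^ k) → F := Pi.single (Sum.inl ⟨0, hn1⟩) 1
      have h4 : ∀ w, E w = (a : F) • w := by
        intro w
        have h5 := DFunLike.congr_fun ha w
        exact h5
      have h5 := hE2 v
      rw [h4, h4, smul_smul] at h5
      have h6 := congrFun h5 (Sum.inl ⟨0, hn1⟩)
      simp only [Pi.smul_apply, smul_eq_mul, v, Pi.single_eq_same, mul_one] at h6
      exact h6.symm
  · rw [Psi_mk]
    congr 1
    apply rho_injective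
    rw [rho_conjHom]
    have hcomm : ∀ v, E (L v) = L (E v) := by
      intro v
      have h3 : Commute E L := by
        have e1 : L = aeval L (X : F[X]) := (aeval_X L).symm
        rw [hE]
        change aeval L P * L = L * aeval L P
        nth_rewrite 2 [e1]
        nth_rewrite 3 [e1]
        rw [← map_mul, ← map_mul, mul_comm]
      rw [← Module.End.mul_apply, h3.eq, Module.End.mul_apply]
    rw [mul_inv_eq_iff_eq_mul]
    ext1 v
    exact hcomm v

/-- the map `Sp_{2n}(K) → Sp_{2n}(F)` -/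
noncomputable def mapSp {K F : Type*} [Field K] [Field F] (n : ℕ) (f : K →+* F) :
    Matrix.symplecticGroup (Fin n) K →* Matrix.symplecticGroup (Fin n) F where
  toFun A := ⟨A.1.map f, by
    rw [SymplecticGroup.mem_iff]
    have hJ : Matrix.J (Fin n) F = (Matrix.J (Fin n) K).map f := by
      rw [Matrix.J, Matrix.J, Matrix.fromBlocks_map]
      congr 1
      · ext i j; simp
      · ext i j; simp [Matrix.one_apply, apply_ite f]
      · ext i j; simp [Matrix.one_apply, apply_ite f]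
      · ext i j; simp
    rw [hJ, ← Matrix.transpose_map, ← Matrix.map_mul, ← Matrix.map_mul]
    congr 1
    exact SymplecticGroup.mem_iff.1 A.2⟩
  map_one' := Subtype.ext (by
    change Matrix.map (1 : Matrix _ _ K) f = 1
    ext i j; simp [Matrix.one_apply, apply_ite f])
  map_mul' A B := Subtype.ext (by
    change Matrix.map (A.1 * B.1) f = A.1.map f * B.1.map f
    rw [Matrix.map_mul])

theorem mapSp_apply {K F : Type*} [Field K] [Field F] (n : ℕ) (f : K →+* F) (A : Matrix.symplecticGroup (Fin n) K) :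
    (mapSp n f A).1 = A.1.map f := rfl

theorem mapSp_injective {K F : Type*} [Field K] [Field F] (n : ℕ) (f : K →+* F) : Function.Injective (mapSp n f) := by
  intro A B h
  apply Subtype.ext
  have h1 := congrArg Subtype.val h
  rw [mapSp_apply, mapSp_apply] at h1
  ext i j
  have h2 := congrFun (congrFun h1 i) j
  simp only [Matrix.map_apply] at h2
  exact f.injective h2

/-- existence of elements of order `r` in `Sp_{2n}(K)` -/
theorem exists_order_sp {K : Type*} [Field K] [Fintype K] {r k : ℕ} (hr : r.Prime) (h : r ∣ Fintype.card K ^ 2 ^ k + 1) :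
    ∃ g : Matrix.symplecticGroup (Fin (2 ^ k)) K, orderOf g = r := by
  haveI : Fact r.Prime := ⟨hr⟩
  apply exists_prime_orderOf_dvd_card' r
  rw [SympCount.card_symplecticGroup]
  apply Dvd.dvd.mul_left
  have hn1 : 1 ≤ 2 ^ k := Nat.one_le_two_pow
  refine Dvd.dvd.trans ?_ (Finset.dvd_prod_of_mem _ (Finset.mem_range.2 (show 2 ^ k - 1 < 2 ^ k by omega)))
  have h1 : 2 * (2 ^ k - 1 + 1) = 2 ^ k * 2 := by omega
  rw [h1, pow_mul]
  have h2 : (Fintype.card K ^ 2 ^ k) ^ 2 - 1 = (Fintype.card K ^ 2 ^ k + 1) * (Fintype.card K ^ 2 ^ k - 1) := by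
    have := Nat.sq_sub_sq (Fintype.card K ^ 2 ^ k) 1
    rwa [one_pow] at this
  rw [h2]
  exact h.mul_right _

/-- elements of odd prime order of `Sp` keep their orders in `PSp` -/
theorem orderOf_mk_sp {F : Type*} [Field F] {n r : ℕ} (hn : 1 ≤ n) (hr : r.Prime) (hr2 : r ≠ 2)
    {g : Matrix.symplecticGroup (Fin n) F} (hg : orderOf g = r) : orderOf (QuotientGroup.mk g : PSp n F) = r := by
  haveI : Fact r.Prime := ⟨hr⟩
  apply orderOf_eq_prime
  · rw [← QuotientGroup.mk_pow, ← hg, pow_orderOf_eq_one]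
    rfl
  · intro h
    have h1 : g ∈ Subgroup.center (Matrix.symplecticGroup (Fin n) F) := (QuotientGroup.eq_one_iff _).1 h
    obtain ⟨a, ha⟩ := (SympCenter.mem_center_iff n g).1 h1
    have h3 := SympCenter.sq_eq_one_of_smul_mem hn (a := a) (ha ▸ g.2)
    have h4 : g ^ 2 = 1 := by
      apply Subtype.ext
      rw [sq]
      change g.1 * g.1 = 1
      rw [ha, smul_mul_smul_comm, h3, one_smul, one_mul]
    have h5 := orderOf_dvd_of_pow_eq_one h4
    rw [hg] at h5
    exact hr2 ((Nat.prime_dvd_prime_iff_eq hr Nat.prime_two).1 h5)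

/-- **The symplectic case.** -/
theorem outOK_sp {F : Type*} [Field F] [Fintype F] {p a k m : ℕ} (hp : p.Prime) (hp2 : p ≠ 2) (ha : Odd a)
    (hF : Fintype.card F = p ^ a) (hk : 1 ≤ k) (hm : 2 * m = Fintype.card F ^ 2 ^ k + 1) : OutOK m (PSp (2 ^ k) F) := by
  classical
  haveI : Fact p.Prime := ⟨hp⟩
  have ha0 : a ≠ 0 := by rintro rfl; exact absurd ha (by decide)
  have hchar : CharP F p := by
    obtain ⟨q, hq⟩ := CharP.exists F
    obtain ⟨n, hqp, hn⟩ := FiniteField.card F q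
    have : q ∣ p ^ a := by
      rw [← hF, hn]
      exact dvd_pow_self q n.pos.ne'
    have hqp' : q = p := (Nat.prime_dvd_prime_iff_eq hqp hp).1 (hqp.dvd_of_dvd_pow this)
    rwa [← hqp']
  have h2 : (2 : F) ≠ 0 := by
    intro h0
    have : p ∣ 2 := (CharP.cast_eq_zero_iff F p 2).1 (by exact_mod_cast h0)
    exact hp2 ((Nat.prime_dvd_prime_iff_eq hp Nat.prime_two).1 this)
  obtain ⟨r, hr, hr2, hrp⟩ := exists_r hp hp2 hk
  have hrq : r ∣ Fintype.card F ^ 2 ^ k + 1 := by
    rw [hF]; exact dvd_of_odd ha hrp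
  have hrm : r ∣ m := by
    rw [← hm] at hrq
    rcases (Nat.Prime.dvd_mul hr).1 hrq with h | h
    · exact absurd ((Nat.prime_dvd_prime_iff_eq hr Nat.prime_two).1 h) hr2
    · exact h
  have hn1 : 1 ≤ 2 ^ k := Nat.one_le_two_pow
  have hn2 : 2 ≤ 2 ^ k := by
    calc 2 = 2 ^ 1 := (pow_one 2).symm
      _ ≤ 2 ^ k := Nat.pow_le_pow_right (by norm_num) hk
  obtain ⟨g₀, hg₀⟩ := exists_order_sp (K := ZMod p) (k := k) hr (by rwa [ZMod.card])
  letI : Algebra (ZMod p) F := ZMod.algebra F p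
  set g := mapSp (2 ^ k) (algebraMap (ZMod p) F) g₀ with hg
  have hgr : orderOf g = r := by rw [hg, orderOf_injective _ (mapSp_injective _ _), hg₀]
  refine ⟨a, ha, ?_, ⟨r, QuotientGroup.mk g, phi (2 ^ k) F (frobeniusEquiv F p), hr, hrm, orderOf_mk_sp hn1 hr hr2 hgr,
    ?_, ?_⟩, ?_⟩
  · have h3 := Cfsg.Agent.S0814.result (F := F) p a (Nat.one_le_iff_ne_zero.2 ha0) hF (2 ^ k) hn2 (by
      intro _
      have h4 : 3 ≤ p := by
        have := hp.two_le
        omega
      calc 3 ≤ p := h4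
        _ = p ^ 1 := (pow_one p).symm
        _ ≤ p ^ a := Nat.pow_le_pow_right (by omega) (by omega))
    rw [if_neg (fun h => hp2 h.2), one_mul] at h3
    rw [h3]
    congr 2
    have h5 : 2 ∣ p ^ a - 1 := by
      have h6 : Odd (p ^ a) := (hp.odd_of_ne_two hp2).pow
      obtain ⟨c, hc⟩ := h6
      exact ⟨c, by omega⟩
    exact Nat.gcd_eq_left h5
  · rw [orderOf_injective _ (phi_injective hn1), orderOf_frob ha0 hF]
  · rw [phi_apply, Psi_mk]
    congr 1
    apply rho_injective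
    rw [rho_conjHom, mul_inv_eq_iff_eq_mul]
    ext1 v
    rw [Equiv.Perm.mul_apply, Equiv.Perm.mul_apply, rho_apply, rho_apply]
    ext i
    rw [frobPerm_apply]
    simp only [Matrix.mulVec, dotProduct, map_sum, map_mul]
    refine Finset.sum_congr rfl fun j _ => ?_
    rw [frobPerm_apply, hg, mapSp_apply, Matrix.map_apply]
    congr 1
    rw [frobeniusEquiv_apply, frobenius_def, ← map_pow, ZMod.pow_card]
  · obtain ⟨τ, hτ, hfix⟩ := exists_tau hr hr2 h2 hk hrq hgr
    exact ⟨r, QuotientGroup.mk g, τ, hr, hrm, orderOf_mk_sp hn1 hr hr2 hgr, hτ, hfix⟩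

end Cfsg.Agent.H767.PO
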